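import Cfsg.Agent.Lib.ThreeTrans.SymSection.Points
import Cfsg.Agent.S0439

/-!
Perps that are symmetric groups give a symmetric group with its transpositions (owner: helper22).
-/

set_option autoImplicit false
set_option linter.unusedSectionVars false

attribute [local instance] Classical.propDecidable

namespace CfsgLib.ThreeTrans.SymSection

open Cfsg RankThree Finset
open CoreNC (nb)

universe u

variable {G : Type u} [Group G] [Finite G] {D : Set G} {m : ℕ} (L : SymLoc D m)

/-- The pair of points of a member. -/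
noncomputable def SymLoc.pair (d x g : G) : Finset (Fin m ⊕ Bool) :=
  if g = d then {Sum.inr true, Sum.inr false}
  else if Commute g d then (L.p d g).map ⟨Sum.inl, Sum.inl_injective⟩
  else {Sum.inl (L.pt d g), Sum.inr (decide (L.Near d x g))}

variable {d x : G} (hd : d ∈ D) (hx : x ∈ D) (hdx : ¬ Commute d x)
include hd hx hdx

theorem SymLoc.trichotomy {g : G} (hg : g ∈ D) :
    (g = d ∧ L.pair d x g = {Sum.inr true, Sum.inr false}) ∨
      (g ∈ nb D d ∧ L.pair d x g = (L.p d g).map ⟨Sum.inl, Sum.inl_injective⟩) ∨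
      (¬ Commute d g ∧ L.pair d x g = {Sum.inl (L.pt d g), Sum.inr (decide (L.Near d x g))}) := by
  by_cases h : g = d
  · exact Or.inl ⟨h, by rw [SymLoc.pair, if_pos h]⟩
  · by_cases hc : Commute g d
    · exact Or.inr (Or.inl ⟨⟨hg, h, hc.symm⟩, by rw [SymLoc.pair, if_neg h, if_pos hc]⟩)
    · exact Or.inr (Or.inr ⟨fun e => hc e.symm, by rw [SymLoc.pair, if_neg h, if_neg hc]⟩)

theorem SymLoc.pair_card {g : G} (hg : g ∈ D) : (L.pair d x g).card = 2 := by
  rcases L.trichotomy hd hx hdx hg with ⟨-, e⟩ | ⟨h, e⟩ | ⟨-, e⟩ <;> rw [e]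
  · exact card_pair (by simp)
  · rw [card_map, L.card d hd g h]
  · exact card_pair (by simp)

theorem SymLoc.commute_pair {g g' : G} (hg : g ∈ D) (hg' : g' ∈ D) (hne : g ≠ g') :
    Commute g g' ↔ Disjoint (L.pair d x g) (L.pair d x g') := by
  rcases L.trichotomy hd hx hdx hg with ⟨h, e⟩ | ⟨h, e⟩ | ⟨h, e⟩ <;>
    rcases L.trichotomy hd hx hdx hg' with ⟨h', e'⟩ | ⟨h', e'⟩ | ⟨h', e'⟩ <;> rw [e, e']
  · exact absurd (h.trans h'.symm) hne
  · exact iff_of_true (h ▸ h'.2.2) (by simp [disjoint_left])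
  · exact iff_of_false (h ▸ h') (by cases hb : decide (L.Near d x g') <;> simp [disjoint_left])
  · exact iff_of_true (h' ▸ h.2.2.symm) (by simp [disjoint_left])
  · rw [L.comm d hd g h g' h' hne, disjoint_map]
  · rw [L.pt_spec hd hg' h' h]
    simp [disjoint_left]
  · exact iff_of_false (fun hc => h (h' ▸ hc.symm)) (by cases hb : decide (L.Near d x g) <;> simp [disjoint_left])
  · rw [show Commute g g' ↔ Commute g' g from ⟨Commute.symm, Commute.symm⟩, L.pt_spec hd hg h h']
    simp [disjoint_left]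
  · rw [L.commute_far hd hg' h' hg h, or_iff_right hne, ← L.near_trans hd hx hdx hg' h' hg h]
    simp only [disjoint_insert_left, disjoint_singleton_left, mem_insert, mem_singleton, Sum.inl.injEq,
      reduceCtorEq, or_false, false_or, Sum.inr.injEq, decide_eq_decide]
    tauto

theorem SymLoc.pair_injOn : Set.InjOn (L.pair d x) D := by
  intro g hg g' hg' e0
  rcases L.trichotomy hd hx hdx hg with ⟨h, e⟩ | ⟨h, e⟩ | ⟨h, e⟩ <;>
    rcases L.trichotomy hd hx hdx hg' with ⟨h', e'⟩ | ⟨h', e'⟩ | ⟨h', e'⟩ <;> rw [e, e'] at e0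
  · exact h.trans h'.symm
  · exact absurd (e0 ▸ mem_insert_self (Sum.inr true) _ : Sum.inr true ∈ _) (by simp)
  · exact absurd (e0.symm ▸ mem_insert_self (Sum.inl (L.pt d g')) _ : Sum.inl (L.pt d g') ∈ _) (by simp)
  · exact absurd (e0.symm ▸ mem_insert_self (Sum.inr true) _ : Sum.inr true ∈ _) (by simp)
  · exact L.inj d hd h h' (map_injective _ e0)
  · exact absurd (e0.symm ▸ mem_insert_of_mem (mem_singleton_self (Sum.inr (decide (L.Near d x g')))) :
      Sum.inr (decide (L.Near d x g')) ∈ _) (by simp)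
  · exact absurd (e0 ▸ mem_insert_self (Sum.inl (L.pt d g)) _ : Sum.inl (L.pt d g) ∈ _) (by simp)
  · exact absurd (e0 ▸ mem_insert_of_mem (mem_singleton_self (Sum.inr (decide (L.Near d x g)))) :
      Sum.inr (decide (L.Near d x g)) ∈ _) (by simp)
  · have hk : L.pt d g = L.pt d g' := by
      have : Sum.inl (L.pt d g) ∈ ({Sum.inl (L.pt d g'), Sum.inr (decide (L.Near d x g'))} : Finset (Fin m ⊕ Bool)) :=
        e0 ▸ mem_insert_self _ _
      simpa using this
    have hn : L.Near d x g ↔ L.Near d x g' := by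
      have : Sum.inr (decide (L.Near d x g)) ∈
          ({Sum.inl (L.pt d g'), Sum.inr (decide (L.Near d x g'))} : Finset (Fin m ⊕ Bool)) :=
        e0 ▸ mem_insert_of_mem (mem_singleton_self _)
      simpa using this
    rcases (L.near_trans hd hx hdx hg' h' hg h).1 hn.symm with h1 | h1
    · exact h1
    · exact absurd hk h1.1

theorem SymLoc.pair_surj {s : Finset (Fin m ⊕ Bool)} (hs : s.card = 2) : ∃ g ∈ D, L.pair d x g = s := by
  obtain ⟨u, v, huv, rfl⟩ := card_eq_two.1 hs
  have mixed : ∀ (k : Fin m) (b : Bool), ∃ g ∈ D, L.pair d x g = {Sum.inl k, Sum.inr b} := by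
    intro k b
    obtain ⟨g, hg, hdg, hk, hb⟩ := L.exists_far hd hx hdx k (b = true)
    refine ⟨g, hg, ?_⟩
    rcases L.trichotomy hd hx hdx hg with ⟨h, -⟩ | ⟨h, -⟩ | ⟨-, e⟩
    · exact absurd (h ▸ Commute.refl d) hdg
    · exact absurd h.2.2 hdg
    · rw [e, hk]
      congr 2
      cases b <;> simp_all
  rcases u with k | b <;> rcases v with k' | b'
  · obtain ⟨g, hg, hge⟩ := L.surj d hd {k, k'} (card_pair fun e => huv (by rw [e]))
    refine ⟨g, hg.1, ?_⟩
    rcases L.trichotomy hd hx hdx hg.1 with ⟨h, -⟩ | ⟨-, e⟩ | ⟨h, -⟩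
    · exact absurd h hg.2.1
    · rw [e, hge, map_insert, map_singleton]; rfl
    · exact absurd hg.2.2 h
  · exact mixed k b'
  · obtain ⟨g, hg, e⟩ := mixed k' b
    exact ⟨g, hg, e.trans (pair_comm _ _)⟩
  · refine ⟨d, hd, ?_⟩
    rw [SymLoc.pair, if_pos rfl]
    cases b <;> cases b' <;> first | exact absurd rfl huv | rfl | exact pair_comm _ _

omit hd hx hdx in
theorem commute_swap_iff {n : ℕ} {σ τ : Equiv.Perm (Fin n)} (hσ : σ.IsSwap) (hτ : τ.IsSwap) :
    Commute σ τ ↔ σ = τ ∨ Disjoint σ.support τ.support := by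
  constructor
  · intro h
    by_contra hc
    push Not at hc
    obtain ⟨a, b, hab, rfl⟩ := hσ
    obtain ⟨c, e, hce, rfl⟩ := hτ
    obtain ⟨z, hz, hz'⟩ := not_disjoint_iff.1 hc.2
    rw [Equiv.Perm.support_swap hab, mem_insert, mem_singleton] at hz
    rw [Equiv.Perm.support_swap hce, mem_insert, mem_singleton] at hz'
    obtain ⟨b', hb', hσe⟩ : ∃ b', z ≠ b' ∧ Equiv.swap a b = Equiv.swap z b' := by
      rcases hz with rfl | rfl
      exacts [⟨b, hab, rfl⟩, ⟨a, hab.symm, Equiv.swap_comm _ _⟩]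
    obtain ⟨e', he', hτe⟩ : ∃ e', z ≠ e' ∧ Equiv.swap c e = Equiv.swap z e' := by
      rcases hz' with rfl | rfl
      exacts [⟨e, hce, rfl⟩, ⟨c, hce.symm, Equiv.swap_comm _ _⟩]
    rw [hσe, hτe] at h
    have hbe : b' ≠ e' := fun e0 => hc.1 (by rw [hσe, hτe, e0])
    have := Equiv.ext_iff.1 h.eq z
    simp only [Equiv.Perm.mul_apply, Equiv.swap_apply_left,
      Equiv.swap_apply_of_ne_of_ne he'.symm hbe.symm, Equiv.swap_apply_of_ne_of_ne hb'.symm hbe] at this
    exact hbe this.symm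
  · rintro (rfl | h)
    · exact Commute.refl σ
    · exact (Equiv.Perm.disjoint_iff_disjoint_support.2 h).commute

omit hd hx hdx in
theorem center_perm_eq_bot {n : ℕ} (hn : 3 ≤ n) : Subgroup.center (Equiv.Perm (Fin n)) = ⊥ := by
  refine (Subgroup.eq_bot_iff_forall _).2 fun g hg => Equiv.ext fun a => ?_
  obtain ⟨b, hb, hab⟩ : ∃ b, b ≠ g a ∧ b ≠ a := by
    obtain ⟨b, hb⟩ : ∃ b, b ∉ ({g a, a} : Finset (Fin n)) := by
      by_contra hall
      push Not at hall
      have h1 := card_le_card (show (univ : Finset (Fin n)) ⊆ {g a, a} from fun t _ => hall t)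
      have h2 := card_insert_le (g a) {a}
      rw [card_singleton] at h2
      rw [card_univ, Fintype.card_fin] at h1
      omega
    simp only [mem_insert, mem_singleton, not_or] at hb
    exact ⟨b, hb⟩
  have h := Equiv.ext_iff.1 (Subgroup.mem_center_iff.1 hg (Equiv.swap a b)) a
  simp only [Equiv.Perm.mul_apply, Equiv.swap_apply_left] at h
  show g a = a
  by_contra hga
  rw [Equiv.swap_apply_of_ne_of_ne hga (Ne.symm hb)] at h
  exact hab.symm (g.injective h)

omit hd hx hdx in
/-- Symmetric perps give the symmetric group on two more points with its transpositions. -/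
theorem sym_add_two_of_loc (L : SymLoc D m) (hZ : Subgroup.center G = ⊥) :
    ∃ e : G ≃* Equiv.Perm (Fin (m + 2)), e '' D = {σ : Equiv.Perm (Fin (m + 2)) | σ.IsSwap} := by
  obtain ⟨d, hd, -⟩ := L.setting.nontriv
  obtain ⟨x, hx, hdx⟩ := exists_not_commute L.setting.cls L.setting.nontriv hd
  have hm := L.big
  let ε : (Fin m ⊕ Bool) ≃ Fin (m + 2) :=
    Fintype.equivFinOfCardEq (by rw [Fintype.card_sum, Fintype.card_fin, Fintype.card_bool])
  let T : G → Finset (Fin (m + 2)) := fun g => (L.pair d x g).map ε.toEmbedding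
  have hT : ∀ g ∈ D, (T g).card = 2 := fun g hg => by rw [card_map, L.pair_card hd hx hdx hg]
  have hsw : ∀ g : D, ∃ σ : Equiv.Perm (Fin (m + 2)), σ.IsSwap ∧ σ.support = T g := fun g => by
    obtain ⟨a, b, hab, he⟩ := card_eq_two.1 (hT g g.2)
    exact ⟨Equiv.swap a b, ⟨a, b, hab, rfl⟩, by rw [Equiv.Perm.support_swap hab, he]⟩
  choose S hS hsupp using hsw
  have huniq : ∀ σ τ : Equiv.Perm (Fin (m + 2)), σ.IsSwap → τ.IsSwap → σ.support = τ.support → σ = τ := by
    rintro _ _ ⟨a, b, hab, rfl⟩ ⟨c, e, hce, rfl⟩ h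
    rw [Equiv.Perm.support_swap hab, Equiv.Perm.support_swap hce] at h
    have h1 : a ∈ ({c, e} : Finset (Fin (m + 2))) := h ▸ mem_insert_self a _
    have h2 : b ∈ ({c, e} : Finset (Fin (m + 2))) := h ▸ mem_insert_of_mem (mem_singleton_self b)
    simp only [mem_insert, mem_singleton] at h1 h2
    rcases h1 with rfl | rfl <;> rcases h2 with rfl | rfl
    exacts [absurd rfl hab, rfl, Equiv.swap_comm _ _, absurd rfl hab]
  let τ : D ≃ {σ : Equiv.Perm (Fin (m + 2)) | σ.IsSwap} := Equiv.ofBijective (fun g => ⟨S g, hS g⟩) ⟨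
    fun a b e => Subtype.ext (L.pair_injOn hd hx hdx a.2 b.2 (map_injective ε.toEmbedding (show T a = T b by
      rw [← hsupp a, ← hsupp b, show S a = S b from congrArg Subtype.val e]))), fun σ => by
    obtain ⟨g, hg, hge⟩ := L.pair_surj hd hx hdx (s := σ.1.support.map ε.symm.toEmbedding) (by
      rw [card_map, Equiv.Perm.card_support_eq_two.2 σ.2])
    refine ⟨⟨g, hg⟩, Subtype.ext (huniq _ _ (hS _) σ.2 ?_)⟩
    rw [hsupp]
    show (L.pair d x g).map ε.toEmbedding = _
    rw [hge, map_map]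
    convert map_refl (s := σ.1.support)
    ext; simp⟩
  refine exists_iso_of_graph L.setting.cls (Cfsg.Agent.S0439.result (m + 2) (by omega)) hZ
    (center_perm_eq_bot (by omega)) L.lineUnique τ fun a b => ?_
  show Commute (a : G) b ↔ Commute (S a) (S b)
  rw [commute_swap_iff (hS a) (hS b), hsupp, hsupp]
  by_cases hab : (a : G) = b
  · rw [Subtype.ext hab]; simp
  · rw [L.commute_pair hd hx hdx a.2 b.2 hab, disjoint_map, or_iff_right]
    intro e
    exact hab (congrArg Subtype.val (τ.injective (Subtype.ext e : τ a = τ b)))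

omit hd hx hdx in
/-- Symmetric perps give a symmetric group with its transpositions. -/
theorem sym_of_loc (L : SymLoc D m) (hZ : Subgroup.center G = ⊥) :
    ∃ n : ℕ, 7 ≤ n ∧ ∃ e : G ≃* Equiv.Perm (Fin n), e '' D = {σ : Equiv.Perm (Fin n) | σ.IsSwap} :=
  ⟨m + 2, by have := L.big; omega, sym_add_two_of_loc L hZ⟩

end CfsgLib.ThreeTrans.SymSection
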