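import Cfsg.Agent.Lib.ThreeTrans.SymSection.Main
import Cfsg.Agent.Lib.ThreeTrans.SympSection.Adapter

/-!
From a section isomorphic to a symmetric group with its transpositions to transposition coordinates
(owner: helper22).
-/

set_option autoImplicit false
set_option linter.unusedSectionVars false

namespace CfsgLib.ThreeTrans.SymSection

open Cfsg RankThree Finset
open CoreNC (nb)

universe u

variable {G : Type u} [Group G] [Finite G] {D : Set G} {m : ℕ}

/-- Coordinates at one member give coordinates at every member. -/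
theorem loc_of_one (S : Setting D) (hm : 7 ≤ m) {d₀ : G} (hd₀ : d₀ ∈ D) (p₀ : G → Finset (Fin m))
    (hcard : ∀ a ∈ nb D d₀, (p₀ a).card = 2) (hinj : Set.InjOn p₀ (nb D d₀))
    (hsurj : ∀ s : Finset (Fin m), s.card = 2 → ∃ a ∈ nb D d₀, p₀ a = s)
    (hcomm : ∀ a ∈ nb D d₀, ∀ b ∈ nb D d₀, a ≠ b → (Commute a b ↔ Disjoint (p₀ a) (p₀ b))) :
    Nonempty (SymLoc D m) := by
  classical
  let g : G → G := fun d => if h : ∃ g, g * d₀ * g⁻¹ = d then h.choose else 1
  have hg : ∀ d ∈ D, g d * d₀ * (g d)⁻¹ = d := fun d hd => by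
    have h := class_trans S.cls hd₀ hd
    simp only [g, dif_pos h]
    exact h.choose_spec
  have hmem : ∀ d ∈ D, ∀ a ∈ nb D d, (g d)⁻¹ * a * g d ∈ nb D d₀ := by
    intro d hd a ha
    have := CoreNC.nb_conj S (g := (g d)⁻¹) ha
    rwa [inv_inv, show (g d)⁻¹ * d * g d = d₀ by
      calc (g d)⁻¹ * d * g d = (g d)⁻¹ * (g d * d₀ * (g d)⁻¹) * g d := by rw [hg d hd]
        _ = d₀ := by group] at this
  refine ⟨⟨S, hm, fun d a => p₀ ((g d)⁻¹ * a * g d), fun d hd a ha => hcard _ (hmem d hd a ha),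
    fun d hd a ha b hb e => ?_, fun d hd w hw => ?_, fun d hd a ha b hb hne => ?_⟩⟩
  · exact mul_left_cancel (mul_right_cancel (hinj (hmem d hd a ha) (hmem d hd b hb) e))
  · obtain ⟨a, ha, rfl⟩ := hsurj w hw
    refine ⟨g d * a * (g d)⁻¹, ?_, by simp only [mul_assoc, inv_mul_cancel_left, inv_mul_cancel, mul_one]⟩
    have := CoreNC.nb_conj S (g := g d) ha
    rwa [hg d hd] at this
  · rw [← hcomm _ (hmem d hd a ha) _ (hmem d hd b hb) (fun e => hne (mul_left_cancel (mul_right_cancel e)))]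
    have := commute_conj_iff (g := (g d)⁻¹) (a := a) (b := b)
    rw [inv_inv] at this
    exact this.symm

/-- The section at `d` is a symmetric group with its transpositions, faithfully on members. -/
def IsSymSection (D : Set G) (d : G) (m : ℕ) : Prop :=
  ∃ e : ↥(Subgroup.closure {y : G | y ∈ D ∧ y ≠ d ∧ Commute d y}) ⧸
        Subgroup.center ↥(Subgroup.closure {y : G | y ∈ D ∧ y ≠ d ∧ Commute d y}) ≃*
      Equiv.Perm (Fin m),
    e '' ((QuotientGroup.mk : ↥(Subgroup.closure {y : G | y ∈ D ∧ y ≠ d ∧ Commute d y}) → _) ''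
        {x : ↥(Subgroup.closure {y : G | y ∈ D ∧ y ≠ d ∧ Commute d y}) | (x : G) ∈ {y : G | y ∈ D ∧ y ≠ d ∧ Commute d y}}) =
      {σ : Equiv.Perm (Fin m) | σ.IsSwap} ∧
    Set.InjOn (QuotientGroup.mk : ↥(Subgroup.closure {y : G | y ∈ D ∧ y ≠ d ∧ Commute d y}) →
        ↥(Subgroup.closure {y : G | y ∈ D ∧ y ≠ d ∧ Commute d y}) ⧸
          Subgroup.center ↥(Subgroup.closure {y : G | y ∈ D ∧ y ≠ d ∧ Commute d y}))
      {x : ↥(Subgroup.closure {y : G | y ∈ D ∧ y ≠ d ∧ Commute d y}) | (x : G) ∈ {y : G | y ∈ D ∧ y ≠ d ∧ Commute d y}}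

/-- The transposition coordinates of a symmetric section. -/
theorem coords_of_symSection (S : Setting D) {d : G} (h : IsSymSection D d m) :
    ∃ p₀ : G → Finset (Fin m), (∀ a ∈ nb D d, (p₀ a).card = 2) ∧ Set.InjOn p₀ (nb D d) ∧
      (∀ s : Finset (Fin m), s.card = 2 → ∃ a ∈ nb D d, p₀ a = s) ∧
      ∀ a ∈ nb D d, ∀ b ∈ nb D d, a ≠ b → (Commute a b ↔ Disjoint (p₀ a) (p₀ b)) := by
  classical
  obtain ⟨e, he, hinj⟩ := h
  let T : Set G := {y : G | y ∈ D ∧ y ≠ d ∧ Commute d y}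
  let H := Subgroup.closure T
  let im : ∀ a, a ∈ T → Equiv.Perm (Fin m) := fun a ha =>
    e ((⟨a, Subgroup.subset_closure ha⟩ : H) : H ⧸ Subgroup.center H)
  have hswap : ∀ a (ha : a ∈ T), (im a ha).IsSwap := fun a ha =>
    he.subset ⟨_, ⟨⟨a, Subgroup.subset_closure ha⟩, ha, rfl⟩, rfl⟩
  let p₀ : G → Finset (Fin m) := fun a => if ha : a ∈ T then (im a ha).support else ∅
  have hp : ∀ a (ha : a ∈ T), p₀ a = (im a ha).support := fun a ha => dif_pos ha
  have huniq : ∀ σ τ : Equiv.Perm (Fin m), σ.IsSwap → τ.IsSwap → σ.support = τ.support → σ = τ := by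
    rintro _ _ ⟨a, b, hab, rfl⟩ ⟨c, e, hce, rfl⟩ h
    rw [Equiv.Perm.support_swap hab, Equiv.Perm.support_swap hce] at h
    have h1 : a ∈ ({c, e} : Finset (Fin m)) := h ▸ mem_insert_self a _
    have h2 : b ∈ ({c, e} : Finset (Fin m)) := h ▸ mem_insert_of_mem (mem_singleton_self b)
    simp only [mem_insert, mem_singleton] at h1 h2
    rcases h1 with rfl | rfl <;> rcases h2 with rfl | rfl
    exacts [absurd rfl hab, rfl, Equiv.swap_comm _ _, absurd rfl hab]
  have hconv : ∀ a (ha : a ∈ T) b (hb : b ∈ T), im a ha = im b hb → a = b := fun a ha b hb e' =>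
    congrArg Subtype.val (hinj (show (⟨a, Subgroup.subset_closure ha⟩ : H) ∈ {x : H | (x : G) ∈ T} from ha)
      (show (⟨b, Subgroup.subset_closure hb⟩ : H) ∈ {x : H | (x : G) ∈ T} from hb) (e.injective e'))
  refine ⟨p₀, fun a ha => by
      rw [hp a ha]; exact Equiv.Perm.card_support_eq_two.2 (hswap a ha),
    fun a ha b hb e' => hconv a ha b hb (huniq _ _ (hswap a ha) (hswap b hb) (by rwa [← hp a ha, ← hp b hb])),
    fun s hs => ?_, fun a ha b hb hne => ?_⟩
  · obtain ⟨u, v, huv, rfl⟩ := card_eq_two.1 hs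
    obtain ⟨_, ⟨a, ha, rfl⟩, hae⟩ := he.superset (show Equiv.swap u v ∈ {σ : Equiv.Perm (Fin m) | σ.IsSwap} from
      ⟨u, v, huv, rfl⟩)
    refine ⟨a, ha, ?_⟩
    rw [hp _ ha, show im (a : G) ha = Equiv.swap u v from hae, Equiv.Perm.support_swap huv]
  · rw [← SympSection.commute_mk_iff S.cls.1 (T := T) (fun y hy => hy.1) (a := ⟨a, Subgroup.subset_closure ha⟩)
      (b := ⟨b, Subgroup.subset_closure hb⟩) ha hb, ← commute_map_iff (f := e) e.injective, hp a ha, hp b hb]
    show Commute (im a ha) (im b hb) ↔ _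
    rw [commute_swap_iff (hswap a ha) (hswap b hb), or_iff_right fun e' => hne (hconv a ha b hb e')]

/-- A symmetric section gives symmetric coordinates on all perps. -/
theorem loc_of_symSection (S : Setting D) {d : G} (hd : d ∈ D) (hm : 7 ≤ m) (h : IsSymSection D d m) :
    Nonempty (SymLoc D m) := by
  obtain ⟨p₀, h1, h2, h3, h4⟩ := coords_of_symSection S h
  exact loc_of_one S hm hd p₀ h1 h2 h3 h4

/-- A symmetric section gives a symmetric group. -/
theorem sym_of_symSection (S : Setting D) (hZ : Subgroup.center G = ⊥) {d : G} (hd : d ∈ D) (hm : 7 ≤ m)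
    (h : IsSymSection D d m) :
    ∃ n : ℕ, 7 ≤ n ∧ ∃ e : G ≃* Equiv.Perm (Fin n), e '' D = {σ : Equiv.Perm (Fin n) | σ.IsSwap} :=
  sym_of_loc (loc_of_symSection S hd hm h).some hZ

end CfsgLib.ThreeTrans.SymSection
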