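import Cfsg.Agent.Lib.ThreeTrans.SymSection.Pairs
import Cfsg.Agent.Lib.ThreeTrans.CoreNotCentral.Setup
import Cfsg.Agent.Lib.ThreeTrans.GraphIso

/-!
A class of 3-transpositions in which the members commuting with one member are the transpositions of a
symmetric group: the point attached to a non-commuting member (owner: helper22).
-/

set_option autoImplicit false
set_option linter.unusedSectionVars false

attribute [local instance] Classical.propDecidable

namespace CfsgLib.ThreeTrans.SymSection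

open Cfsg RankThree Finset
open CoreNC (nb)

universe u

/-- Transposition coordinates on the members commuting with each member. -/
structure SymLoc {G : Type u} [Group G] (D : Set G) (m : ℕ) where
  setting : Setting D
  big : 7 ≤ m
  p : G → G → Finset (Fin m)
  card : ∀ d ∈ D, ∀ a ∈ nb D d, (p d a).card = 2
  inj : ∀ d ∈ D, Set.InjOn (p d) (nb D d)
  surj : ∀ d ∈ D, ∀ s : Finset (Fin m), s.card = 2 → ∃ a ∈ nb D d, p d a = s
  comm : ∀ d ∈ D, ∀ a ∈ nb D d, ∀ b ∈ nb D d, a ≠ b → (Commute a b ↔ Disjoint (p d a) (p d b))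

variable {G : Type u} [Group G] [Finite G] {D : Set G} {m : ℕ}

theorem nb_flip {d a : G} (hd : d ∈ D) (ha : a ∈ nb D d) : d ∈ nb D a := ⟨hd, ha.2.1.symm, ha.2.2.symm⟩

theorem ne_of_not_commute {a b : G} (h : ¬ Commute a b) : a ≠ b := fun e => h (by rw [e])

variable (L : SymLoc D m)
include L

theorem SymLoc.meet {d a b : G} (hd : d ∈ D) (ha : a ∈ nb D d) (hb : b ∈ nb D d) (h : ¬ Commute a b) :
    ¬ Disjoint (L.p d a) (L.p d b) ∧ L.p d a ≠ L.p d b :=
  ⟨fun e => h ((L.comm d hd a ha b hb (ne_of_not_commute h)).2 e), fun e => ne_of_not_commute h (L.inj d hd ha hb e)⟩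

theorem SymLoc.card_le (d : G) (hd : d ∈ D) {a b : G} (ha : a ∈ nb D d) (hb : b ∈ nb D d) :
    (L.p d a ∪ L.p d b).card + 2 ≤ Fintype.card (Fin m) := by
  have := card_union_le (L.p d a) (L.p d b)
  rw [L.card d hd a ha, L.card d hd b hb] at this
  rw [Fintype.card_fin]
  have := L.big
  omega

theorem SymLoc.third_set {d a b z : G} (hd : d ∈ D) (ha : a ∈ nb D d) (hb : b ∈ nb D d) (hz : z ∈ nb D d)
    (hab : ¬ Commute a b) (haz : ¬ Commute a z) (hbz : ¬ Commute b z)
    (h : ∀ e ∈ D, Commute e a → Commute e b → Commute e z) :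
    L.p d z = (L.p d a ∪ L.p d b) \ (L.p d a ∩ L.p d b) := by
  refine eq_third (L.card d hd a ha) (L.card d hd b hb) (L.card d hd z hz) (L.meet hd ha hb hab).2
    (L.meet hd ha hb hab).1 ?_ (fun e => (L.meet hd ha hz haz).2 e.symm) (fun e => (L.meet hd hb hz hbz).2 e.symm)
  refine subset_of_perp (L.card_le d hd ha hb) (fun s t hst hs ht => ?_) ?_
  · obtain ⟨e, he, hes⟩ := L.surj d hd {s, t} (card_pair hst)
    have hd1 : Disjoint ({s, t} : Finset (Fin m)) (L.p d a) ∧ Disjoint ({s, t} : Finset (Fin m)) (L.p d b) := by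
      constructor <;> rw [disjoint_left] <;> intro x hx hx' <;> simp only [mem_insert, mem_singleton] at hx <;>
        rcases hx with rfl | rfl
      exacts [hs (mem_union_left _ hx'), ht (mem_union_left _ hx'), hs (mem_union_right _ hx'), ht (mem_union_right _ hx')]
    have hea : e ≠ a := fun h' => hs (mem_union_left _ (by rw [← h', hes]; exact mem_insert_self s _))
    have heb : e ≠ b := fun h' => hs (mem_union_right _ (by rw [← h', hes]; exact mem_insert_self s _))
    by_cases hez : e = z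
    · exact Or.inr (by rw [← hez, hes])
    · exact Or.inl (hes ▸ (L.comm d hd e he z hz hez).1 (h e he.1 ((L.comm d hd e he a ha hea).2 (hes ▸ hd1.1))
        ((L.comm d hd e he b hb heb).2 (hes ▸ hd1.2))))
  · obtain ⟨x, hx, hx'⟩ := not_disjoint_iff.1 (L.meet hd ha hz haz).1
    exact ⟨x, hx', mem_union_left _ hx⟩

theorem SymLoc.exists_nb {d : G} (hd : d ∈ D) : ∃ a, a ∈ nb D d := by
  have := L.big
  obtain ⟨a, ha, -⟩ := L.surj d hd {(⟨0, by omega⟩ : Fin m), ⟨1, by omega⟩} (card_pair (Fin.ne_of_val_ne (by show (0:ℕ) ≠ 1; omega)))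
  exact ⟨a, ha⟩

theorem SymLoc.exists_common {d x : G} (hd : d ∈ D) (hx : x ∈ D) (hdx : ¬ Commute d x) :
    ∃ a ∈ nb D d, x ∈ nb D a := by
  obtain ⟨a, ha⟩ := L.exists_nb hd
  have hda := nb_flip hd ha
  obtain ⟨s, t, hst, he⟩ := card_eq_two.1 (L.card a ha.1 d hda)
  obtain ⟨w, w', -, hw, -⟩ := exists_two_outside {s, t} (by
    rw [card_pair hst, Fintype.card_fin]; have := L.big; omega)
  simp only [mem_insert, mem_singleton, not_or] at hw
  obtain ⟨x₀, hx₀, hxe⟩ := L.surj a ha.1 {s, w} (card_pair (Ne.symm hw.1))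
  have hne : d ≠ x₀ := fun e => by
    rw [← e, he] at hxe
    have : w ∈ ({s, t} : Finset (Fin m)) := hxe ▸ mem_insert_of_mem (mem_singleton_self w)
    simp only [mem_insert, mem_singleton] at this
    tauto
  have hn : ¬ Commute d x₀ := fun h => by
    have := (L.comm a ha.1 d hda x₀ hx₀ hne).1 h
    rw [he, hxe] at this
    exact disjoint_left.1 this (mem_insert_self s _) (mem_insert_self s _)
  obtain ⟨g, hg, rfl⟩ := L.setting.noncommute_transitive hd hx₀.1 hn hx hdx
  refine ⟨g * a * g⁻¹, ?_, CoreNC.nb_conj L.setting hx₀⟩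
  have := CoreNC.nb_conj L.setting (g := g) ha
  rwa [hg.eq, mul_inv_cancel_right] at this

theorem SymLoc.lineUnique : LineUnique D := by
  intro a ha b hb z hz hab haz hbz h
  obtain ⟨u, hu, hbu⟩ := L.exists_common ha hb hab
  have hau := nb_flip ha hu
  have hS := L.setting.cls.1
  have hc : Commute u z := h u hu.1 hu.2.2.symm hbu.2.2
  have hzu : z ∈ nb D u := ⟨hz, fun e => haz (by rw [e]; exact hu.2.2), hc⟩
  have hw : a * b * a ∈ D := by
    have := class_conj L.setting.cls a b hb
    rwa [inv_eq hS ha] at this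
  have key : ∀ {x y : G}, x ∈ D → ¬ Commute x y → ¬ Commute x (x * y * x) := fun {x y} hx hxy hcx => by
    refine hxy ?_
    have := hcx.eq
    rw [← mul_assoc, ← mul_assoc, mul_self hS hx, one_mul, mul_assoc _ x x, mul_self hS hx, mul_one] at this
    exact this.symm
  have haw := key ha hab
  have hbw : ¬ Commute b (a * b * a) := by
    rw [braid hS ha hb hab]; exact key hb fun e => hab e.symm
  have hwu : a * b * a ∈ nb D u := ⟨hw, fun e => haw (by rw [e]; exact hu.2.2), (hu.2.2.symm.mul_right hbu.2.2).mul_right hu.2.2.symm⟩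
  refine L.inj u hu.1 hzu hwu ?_
  rw [L.third_set hu.1 hau hbu hzu hab haz hbz h,
    L.third_set hu.1 hau hbu hwu hab haw hbw fun e _ h1 h2 => (h1.mul_right h2).mul_right h1]

/-! ### The point of a non-commuting member -/

/-- In the coordinates at a common neighbour. -/
theorem SymLoc.corner {d x a : G} (hd : d ∈ D) (hdx : ¬ Commute d x) (ha : a ∈ nb D d) (hxa : x ∈ nb D a) :
    ∃ P R, P ∈ L.p a d ∧ R ∉ L.p a d ∧ L.p a x = {P, R} := by
  have hda := nb_flip hd ha
  obtain ⟨hm, hne⟩ := L.meet ha.1 hda hxa hdx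
  obtain ⟨P, hP, hP'⟩ := not_disjoint_iff.1 hm
  obtain ⟨R, hR, hRP⟩ : ∃ R ∈ L.p a x, R ≠ P := exists_mem_ne (by rw [L.card a ha.1 x hxa]; omega) P
  have he : L.p a x = {P, R} := (eq_of_subset_of_card_le (by
    intro t ht; simp only [mem_insert, mem_singleton] at ht; rcases ht with rfl | rfl <;> assumption)
    (by rw [card_pair hRP.symm, L.card a ha.1 x hxa])).symm
  refine ⟨P, R, hP, fun hRd => hne (Eq.symm ?_), he⟩
  rw [he]
  exact eq_of_subset_of_card_le (by
    intro t ht; simp only [mem_insert, mem_singleton] at ht; rcases ht with rfl | rfl <;> assumption)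
    (by rw [card_pair hRP.symm, L.card a ha.1 d hda])

theorem SymLoc.disjoint_of_common {d a e : G} (hd : d ∈ D) (ha : a ∈ nb D d) (he : e ∈ nb D d) (hea : e ∈ nb D a) :
    Disjoint (L.p a e) (L.p a d) :=
  (L.comm a ha.1 e hea d (nb_flip hd ha) he.2.1).1 he.2.2.symm

theorem SymLoc.commute_corner {d x a e : G} {P R : Fin m} (hd : d ∈ D) (hdx : ¬ Commute d x) (ha : a ∈ nb D d)
    (hxa : x ∈ nb D a) (hP : P ∈ L.p a d) (hx' : L.p a x = {P, R}) (he : e ∈ nb D d) (hea : e ∈ nb D a) :
    Commute e x ↔ R ∉ L.p a e := by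
  rw [L.comm a ha.1 e hea x hxa (fun h => hdx (h ▸ he.2.2)), hx', disjoint_insert_right, disjoint_singleton_right]
  exact ⟨fun h => h.2, fun h => ⟨fun h' => disjoint_left.1 (L.disjoint_of_common hd ha he hea) h' hP, h⟩⟩

theorem SymLoc.exists_of_pair {d a : G} (hd : d ∈ D) (ha : a ∈ nb D d) {s t : Fin m} (hst : s ≠ t)
    (hs : s ∉ L.p a d) (ht : t ∉ L.p a d) : ∃ e, e ∈ nb D d ∧ e ∈ nb D a ∧ L.p a e = {s, t} := by
  obtain ⟨e, he, hes⟩ := L.surj a ha.1 {s, t} (card_pair hst)
  have hne : e ≠ d := fun h => hs (by rw [← h, hes]; exact mem_insert_self s _)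
  refine ⟨e, ⟨he.1, hne, ((L.comm a ha.1 e he d (nb_flip hd ha) hne).2 ?_).symm⟩, he, hes⟩
  rw [hes, disjoint_insert_left, disjoint_singleton_left]
  exact ⟨hs, ht⟩

/-- The non-commuting pairs away from a common neighbour form a star. -/
theorem SymLoc.local_star {d x a : G} (hd : d ∈ D) (hdx : ¬ Commute d x) (ha : a ∈ nb D d) (hxa : x ∈ nb D a) :
    ∃ l, l ∉ L.p d a ∧ ∀ e ∈ nb D d, e ∈ nb D a → (Commute e x ↔ l ∉ L.p d e) := by
  have hm := L.big
  obtain ⟨P, R, hP, hR, hx'⟩ := L.corner hd hdx ha hxa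
  have hda := nb_flip hd ha
  set N : Set G := {e | e ∈ nb D d ∧ e ∈ nb D a ∧ ¬ Commute e x}
  have hNR : ∀ e ∈ N, R ∈ L.p a e := fun e he => by
    by_contra h
    exact he.2.2 ((L.commute_corner hd hdx ha hxa hP hx' he.1 he.2.1).2 h)
  set A : Finset (Fin m) := (insert R (L.p a d))ᶜ with hA
  have hAcard : A.card = m - 3 := by
    rw [hA, card_compl, Fintype.card_fin, card_insert_of_notMem hR, L.card a ha.1 d hda]
  have hN : N.ncard = m - 3 := by
    rw [← hAcard, ← Set.ncard_coe_finset, ← ((L.inj a ha.1).mono (s₁ := N) fun e he => he.2.1).ncard_image]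
    rw [← Set.InjOn.ncard_image (f := fun T => ({R, T} : Finset (Fin m))) (s := (A : Set (Fin m))) ?_]
    · congr 1
      refine Set.ext fun s => ⟨?_, ?_⟩
      · rintro ⟨e, he, rfl⟩
        obtain ⟨T, hT, hTR⟩ := exists_mem_ne (show 1 < (L.p a e).card by rw [L.card a ha.1 e he.2.1]; omega) R
        refine ⟨T, ?_, eq_of_subset_of_card_le (by
          intro t ht; simp only [mem_insert, mem_singleton] at ht; rcases ht with rfl | rfl
          exacts [hNR e he, hT]) (by rw [card_pair hTR.symm, L.card a ha.1 e he.2.1])⟩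
        rw [mem_coe, hA, mem_compl, mem_insert, not_or]
        exact ⟨hTR, disjoint_left.1 (L.disjoint_of_common hd ha he.1 he.2.1) hT⟩
      · rintro ⟨T, hT, rfl⟩
        rw [mem_coe, hA, mem_compl, mem_insert, not_or] at hT
        obtain ⟨e, he, hea, hes⟩ := L.exists_of_pair hd ha (Ne.symm hT.1) hR hT.2
        exact ⟨e, ⟨he, hea, fun h => (L.commute_corner hd hdx ha hxa hP hx' he hea).1 h
          (by rw [hes]; exact mem_insert_self R _)⟩, hes⟩
    · intro T hT T' hT' e
      rw [mem_coe, hA, mem_compl, mem_insert, not_or] at hT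
      have : T ∈ ({R, T'} : Finset (Fin m)) := (show ({R, T} : Finset (Fin m)) = {R, T'} from e) ▸
        mem_insert_of_mem (mem_singleton_self T)
      simp only [mem_insert, mem_singleton] at this
      exact this.resolve_left hT.1
  have hinj : Set.InjOn (L.p d) N := (L.inj d hd).mono fun e he => he.1
  obtain ⟨l, hl⟩ := star_of_meeting (F := L.p d '' N) (Set.toFinite _)
    (by rintro _ ⟨e, he, rfl⟩; exact L.card d hd e he.1)
    (by
      rintro _ ⟨e, he, rfl⟩ _ ⟨f, hf, rfl⟩ hne hdis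
      have h1 := (L.comm d hd e he.1 f hf.1 fun h => hne (by rw [h])).2 hdis
      have h2 := (L.comm a ha.1 e he.2.1 f hf.2.1 fun h => hne (by rw [h])).1 h1
      exact disjoint_left.1 h2 (hNR e he) (hNR f hf))
    (by rw [hinj.ncard_image, hN]; omega)
  have hdis : ∀ e ∈ N, Disjoint (L.p d e) (L.p d a) := fun e he =>
    (L.comm d hd e he.1 a ha he.2.1.2.1).1 he.2.1.2.2.symm
  obtain ⟨e₀, he₀⟩ := Set.nonempty_of_ncard_ne_zero (s := N) (by omega)
  have hla : l ∉ L.p d a := disjoint_left.1 (hdis e₀ he₀) (hl _ ⟨e₀, he₀, rfl⟩)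
  refine ⟨l, hla, fun e he hea => ⟨fun hex hle => ?_, fun hle => by_contra fun hex => hle (hl _ ⟨e, ⟨he, hea, hex⟩, rfl⟩)⟩⟩
  set B : Finset (Fin m) := (insert l (L.p d a))ᶜ with hB
  have hBcard : B.card = m - 3 := by
    rw [hB, card_compl, Fintype.card_fin, card_insert_of_notMem hla, L.card d hd a ha]
  have hsub : L.p d '' N ⊆ (fun T => ({l, T} : Finset (Fin m))) '' (B : Set (Fin m)) := by
    rintro _ ⟨f, hf, rfl⟩
    obtain ⟨T, hT, hTl⟩ := exists_mem_ne (show 1 < (L.p d f).card by rw [L.card d hd f hf.1]; omega) l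
    refine ⟨T, ?_, eq_of_subset_of_card_le (by
      intro t ht; simp only [mem_insert, mem_singleton] at ht; rcases ht with rfl | rfl
      exacts [hl _ ⟨f, hf, rfl⟩, hT]) (by rw [card_pair hTl.symm, L.card d hd f hf.1])⟩
    rw [mem_coe, hB, mem_compl, mem_insert, not_or]
    exact ⟨hTl, disjoint_left.1 (hdis f hf) hT⟩
  have heq := Set.eq_of_subset_of_ncard_le hsub (by
    refine (Set.ncard_image_le (Set.toFinite _)).trans ?_
    rw [Set.ncard_coe_finset, hBcard, hinj.ncard_image, hN]) (Set.toFinite _)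
  obtain ⟨T, hT, hTl⟩ := exists_mem_ne (show 1 < (L.p d e).card by rw [L.card d hd e he]; omega) l
  have hes : ({l, T} : Finset (Fin m)) = L.p d e := eq_of_subset_of_card_le (by
    intro t ht; simp only [mem_insert, mem_singleton] at ht; rcases ht with rfl | rfl <;> assumption)
    (by rw [card_pair hTl.symm, L.card d hd e he])
  have hmem : L.p d e ∈ L.p d '' N := heq.symm.subset ⟨T, by
    rw [mem_coe, hB, mem_compl, mem_insert, not_or]
    exact ⟨hTl, disjoint_left.1 ((L.comm d hd e he a ha hea.2.1).1 hea.2.2.symm) hT⟩, hes⟩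
  obtain ⟨f, hf, hfe⟩ := hmem
  exact hf.2.2 (L.inj d hd hf.1 he hfe ▸ hex)

/-- Two points with the same pairs outside a small set are equal. -/
theorem SymLoc.pt_eq {d : G} (hd : d ∈ D) {T : Finset (Fin m)} (hT : T.card ≤ 4) {k k' : Fin m} (hk : k ∉ T)
    (h : ∀ e ∈ nb D d, Disjoint (L.p d e) T → k ∈ L.p d e → k' ∈ L.p d e) : k = k' := by
  by_contra hne
  obtain ⟨t, ht⟩ : ∃ t, t ∉ insert k' (insert k T) := by
    have h1 := card_insert_le k' (insert k T)
    have h2 := card_insert_le k T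
    by_contra hall
    push Not at hall
    have h3 := card_le_card (show (univ : Finset (Fin m)) ⊆ insert k' (insert k T) from fun t _ => hall t)
    rw [card_univ, Fintype.card_fin] at h3
    have := L.big; omega
  rw [mem_insert, mem_insert, not_or, not_or] at ht
  obtain ⟨e, he, hes⟩ := L.surj d hd {k, t} (card_pair (Ne.symm ht.2.1))
  have := h e he (by rw [hes, disjoint_insert_left, disjoint_singleton_left]; exact ⟨hk, ht.2.2⟩)
    (by rw [hes]; exact mem_insert_self k _)
  rw [hes] at this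
  simp only [mem_insert, mem_singleton] at this
  rcases this with e | e
  exacts [hne e.symm, ht.1 e.symm]

theorem SymLoc.exists_point {d x : G} (hd : d ∈ D) (hx : x ∈ D) (hdx : ¬ Commute d x) :
    ∃ k, ∀ e ∈ nb D d, Commute e x ↔ k ∉ L.p d e := by
  have hm := L.big
  have hmem : ∀ a ∈ nb D d, Commute a x → x ∈ nb D a := fun a ha h => ⟨hx, fun e => hdx (e ▸ ha.2.2), h⟩
  obtain ⟨a, ha, hxa⟩ := L.exists_common hd hx hdx
  obtain ⟨l, hla, hl⟩ := L.local_star hd hdx ha hxa
  refine ⟨l, fun e he => ?_⟩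
  have hnbd : ∀ {a e : G}, a ∈ nb D d → e ∈ nb D d → Disjoint (L.p d e) (L.p d a) → e ∈ nb D a := by
    intro a e ha he h
    have hne : e ≠ a := fun h' => by
      rw [h', disjoint_self_iff_empty] at h
      have := L.card d hd a ha
      rw [h, card_empty] at this
      omega
    exact ⟨he.1, hne, ((L.comm d hd e he a ha hne).2 h).symm⟩
  have hT1 : (insert l (L.p d a ∪ L.p d e)).card + 2 ≤ Fintype.card (Fin m) := by
    have h1 := card_insert_le l (L.p d a ∪ L.p d e)
    have h2 := card_union_le (L.p d a) (L.p d e)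
    rw [L.card d hd a ha, L.card d hd e he] at h2
    rw [Fintype.card_fin]; omega
  obtain ⟨r, s, hrs, hr, hs⟩ := exists_two_outside _ hT1
  simp only [mem_insert, mem_union, not_or] at hr hs
  obtain ⟨b, hb, hbs⟩ := L.surj d hd {r, s} (card_pair hrs)
  have hba : Disjoint (L.p d b) (L.p d a) := by
    rw [hbs, disjoint_insert_left, disjoint_singleton_left]; exact ⟨hr.2.1, hs.2.1⟩
  have hbx : Commute b x := (hl b hb (hnbd ha hb hba)).2 (by
    rw [hbs]; simp only [mem_insert, mem_singleton, not_or]; exact ⟨Ne.symm hr.1, Ne.symm hs.1⟩)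
  obtain ⟨l', hl'b, hl'⟩ := L.local_star hd hdx hb (hmem b hb hbx)
  have hT : (L.p d a ∪ L.p d b).card ≤ 4 := (card_union_le _ _).trans (by rw [L.card d hd a ha, L.card d hd b hb])
  have hlT : l ∉ L.p d a ∪ L.p d b := by
    rw [mem_union, hbs]; simp only [mem_insert, mem_singleton, not_or]
    exact ⟨hla, Ne.symm hr.1, Ne.symm hs.1⟩
  have hll : l = l' := L.pt_eq hd hT hlT fun f hf hfT hlf => by
    rw [disjoint_union_right] at hfT
    by_contra hl'f
    exact (hl f hf (hnbd ha hf hfT.1)).1 ((hl' f hf (hnbd hb hf hfT.2)).2 hl'f) hlf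
  rw [hll]
  exact hl' e he (hnbd hb he (by
    rw [hbs, disjoint_insert_right, disjoint_singleton_right]; exact ⟨hr.2.2, hs.2.2⟩))

end CfsgLib.ThreeTrans.SymSection
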