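import Mathlib

/-!
Two-element subsets: pairwise meeting families are stars, and the bookkeeping of lines
(owner: helper22).
-/

set_option autoImplicit false

namespace CfsgLib.ThreeTrans.SymSection

open Finset

variable {α : Type*} [DecidableEq α]

/-- Four distinct pairwise meeting pairs have a common point. -/
theorem star_of_meeting {F : Set (Finset α)} (hfin : F.Finite) (h2 : ∀ s ∈ F, s.card = 2)
    (hmeet : ∀ s ∈ F, ∀ t ∈ F, s ≠ t → ¬ Disjoint s t) (h4 : 4 ≤ F.ncard) : ∃ l, ∀ s ∈ F, l ∈ s := by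
  obtain ⟨s, hs⟩ := Set.nonempty_of_ncard_ne_zero (s := F) (by omega)
  obtain ⟨a, b, hab, rfl⟩ := card_eq_two.1 (h2 s hs)
  by_contra hc
  push Not at hc
  obtain ⟨t, ht, hat⟩ := hc a
  obtain ⟨u, hu, hbu⟩ := hc b
  have hform : ∀ t ∈ F, ∀ p q : α, p ≠ q → ({p, q} : Finset α) ∈ F → p ∉ t → ∃ r, r ≠ q ∧ r ≠ p ∧ t = {q, r} := by
    intro t ht p q hpq hpqF hpt
    have hne : ({p, q} : Finset α) ≠ t := fun e => hpt (by rw [← e]; simp)
    obtain ⟨z, hz, hzt⟩ := not_disjoint_iff.1 (hmeet _ hpqF t ht hne)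
    have hzq : z = q := by
      simp only [mem_insert, mem_singleton] at hz
      exact hz.resolve_left fun e => hpt (e ▸ hzt)
    subst hzq
    obtain ⟨x, y, hxy, rfl⟩ := card_eq_two.1 (h2 t ht)
    simp only [mem_insert, mem_singleton] at hzt hpt
    rcases hzt with rfl | rfl
    · exact ⟨y, hxy.symm, fun e => hpt (Or.inr e.symm), rfl⟩
    · exact ⟨x, hxy, fun e => hpt (Or.inl e.symm), pair_comm x z⟩
  obtain ⟨c, hcb, hca, rfl⟩ := hform t ht a b hab hs hat
  obtain ⟨c', hc'a, hc'b, rfl⟩ := hform u hu b a hab.symm (pair_comm a b ▸ hs) hbu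
  have hcc : c' = c := by
    have hne : ({b, c} : Finset α) ≠ {a, c'} := fun e => by
      have : b ∈ ({a, c'} : Finset α) := e ▸ mem_insert_self b _
      simp only [mem_insert, mem_singleton] at this
      rcases this with h | h
      · exact hab h.symm
      · exact hc'b h.symm
    obtain ⟨z, hz, hz'⟩ := not_disjoint_iff.1 (hmeet _ ht _ hu hne)
    simp only [mem_insert, mem_singleton] at hz hz'
    rcases hz with rfl | rfl <;> rcases hz' with h | h
    · exact absurd h hab.symm
    · exact absurd h.symm hc'b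
    · exact absurd h hca
    · exact h.symm
  subst hcc
  have hsub : F ⊆ {{a, b}, {b, c'}, {a, c'}} := fun w hw => by
    have m1 : ∀ p q : α, ({p, q} : Finset α) ∈ F → w = {p, q} ∨ p ∈ w ∨ q ∈ w := fun p q hpq => by
      by_cases e : w = {p, q}
      · exact Or.inl e
      · obtain ⟨z, hz, hzw⟩ := not_disjoint_iff.1 (hmeet _ hpq w hw (Ne.symm e))
        simp only [mem_insert, mem_singleton] at hz
        rcases hz with rfl | rfl
        · exact Or.inr (Or.inl hzw)
        · exact Or.inr (Or.inr hzw)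
    simp only [Set.mem_insert_iff, Set.mem_singleton_iff]
    by_contra hn
    push Not at hn
    obtain ⟨h1, h2', h3⟩ := hn
    have e1 := (m1 a b hs).resolve_left h1
    have e2 := (m1 b c' ht).resolve_left h2'
    have e3 := (m1 a c' hu).resolve_left h3
    have : ∃ p q : α, p ≠ q ∧ p ∈ w ∧ q ∈ w ∧ (({p, q} : Finset α) = {a, b} ∨ ({p, q} : Finset α) = {b, c'} ∨
        ({p, q} : Finset α) = {a, c'}) := by
      rcases e1 with ha | hb
      · rcases e2 with hb | hc
        · exact ⟨a, b, hab, ha, hb, Or.inl rfl⟩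
        · exact ⟨a, c', hc'a.symm, ha, hc, Or.inr (Or.inr rfl)⟩
      · rcases e3 with ha | hc
        · exact ⟨a, b, hab, ha, hb, Or.inl rfl⟩
        · exact ⟨b, c', hc'b.symm, hb, hc, Or.inr (Or.inl rfl)⟩
    obtain ⟨p, q, hpq, hp, hq, he⟩ := this
    have hw' : ({p, q} : Finset α) = w := eq_of_subset_of_card_le (by
      intro z hz; simp only [mem_insert, mem_singleton] at hz; rcases hz with rfl | rfl <;> assumption)
      (by rw [h2 w hw, card_pair hpq])
    rcases he with he | he | he <;> rw [hw'] at he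
    · exact h1 he
    · exact h2' he
    · exact h3 he
  have := Set.ncard_le_ncard hsub (Set.toFinite _)
  have h3 : ({{a, b}, {b, c'}, {a, c'}} : Set (Finset α)).ncard ≤ 3 := by
    refine (Set.ncard_insert_le _ _).trans ?_
    have := Set.ncard_insert_le ({b, c'} : Finset α) {({a, c'} : Finset α)}
    rw [Set.ncard_singleton] at this
    omega
  omega

/-- The third side of a triangle of pairs. -/
theorem eq_third {A B Z : Finset α} (hA : A.card = 2) (hB : B.card = 2) (hZ : Z.card = 2) (hAB : A ≠ B)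
    (hmeet : ¬ Disjoint A B) (hsub : Z ⊆ A ∪ B) (hZA : Z ≠ A) (hZB : Z ≠ B) :
    Z = (A ∪ B) \ (A ∩ B) := by
  have hcap : (A ∩ B).card = 1 := by
    have h1 : 0 < (A ∩ B).card := by
      rw [card_pos]
      obtain ⟨z, hz, hz'⟩ := not_disjoint_iff.1 hmeet
      exact ⟨z, mem_inter.2 ⟨hz, hz'⟩⟩
    have h2 : (A ∩ B).card < 2 := by
      by_contra h
      have e : A ∩ B = A := eq_of_subset_of_card_le inter_subset_left (by omega)
      have e' : A ∩ B = B := eq_of_subset_of_card_le inter_subset_right (by omega)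
      exact hAB (e.symm.trans e')
    omega
  have hsd : ((A ∪ B) \ (A ∩ B)).card = 2 := by
    rw [card_sdiff_of_subset (inter_subset_union), hcap]
    have := card_union_add_card_inter A B
    omega
  refine eq_of_subset_of_card_le (fun z hz => mem_sdiff.2 ⟨hsub hz, fun hzi => ?_⟩) (by omega)
  obtain ⟨w, hw, hwz⟩ : ∃ w ∈ Z, w ≠ z := exists_mem_ne (by omega) z
  have hZe : Z = {z, w} := (eq_of_subset_of_card_le (by
    intro t ht; simp only [mem_insert, mem_singleton] at ht; rcases ht with rfl | rfl <;> assumption)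
    (by rw [card_pair hwz.symm]; omega)).symm
  rw [mem_inter] at hzi
  rcases mem_union.1 (hsub hw) with h | h
  · refine hZA (eq_of_subset_of_card_le ?_ (by omega))
    rw [hZe]
    intro t ht; simp only [mem_insert, mem_singleton] at ht; rcases ht with rfl | rfl
    exacts [hzi.1, h]
  · refine hZB (eq_of_subset_of_card_le ?_ (by omega))
    rw [hZe]
    intro t ht; simp only [mem_insert, mem_singleton] at ht; rcases ht with rfl | rfl
    exacts [hzi.2, h]

variable [Fintype α]

/-- Two points outside a small set. -/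
theorem exists_two_outside (T : Finset α) (h : T.card + 2 ≤ Fintype.card α) :
    ∃ a b, a ≠ b ∧ a ∉ T ∧ b ∉ T := by
  have h2 : 1 < Tᶜ.card := by rw [card_compl]; omega
  obtain ⟨a, ha, b, hb, hab⟩ := one_lt_card.1 h2
  exact ⟨a, b, hab, mem_compl.1 ha, mem_compl.1 hb⟩

/-- A pair disjoint from everything disjoint from `T` lies in `T`. -/
theorem subset_of_perp {T Z : Finset α} (hT : T.card + 2 ≤ Fintype.card α)
    (h : ∀ a b, a ≠ b → a ∉ T → b ∉ T → Disjoint ({a, b} : Finset α) Z ∨ ({a, b} : Finset α) = Z)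
    (hne : ∃ z ∈ Z, z ∈ T) : Z ⊆ T := by
  intro z hz
  by_contra hzT
  obtain ⟨a, b, hab, ha, hb⟩ := exists_two_outside T hT
  obtain ⟨y, hy, hyT⟩ : ∃ y, y ≠ z ∧ y ∉ T := by
    by_cases e : a = z
    · exact ⟨b, e ▸ hab.symm, hb⟩
    · exact ⟨a, e, ha⟩
  rcases h z y hy.symm hzT hyT with hd | he
  · exact (disjoint_left.1 hd (mem_insert_self z _)) hz
  · obtain ⟨t, ht, htT⟩ := hne
    rw [← he] at ht
    simp only [mem_insert, mem_singleton] at ht
    rcases ht with rfl | rfl
    · exact hzT htT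
    · exact hyT htT

end CfsgLib.ThreeTrans.SymSection
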