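import Cfsg.Agent.Lib.ThreeTrans.SymSection.Local

/-!
Commutation between the members not commuting with a fixed one, through their points and sides
(owner: helper22).
-/

set_option autoImplicit false
set_option linter.unusedSectionVars false

attribute [local instance] Classical.propDecidable

namespace CfsgLib.ThreeTrans.SymSection

open Cfsg RankThree Finset
open CoreNC (nb)

universe u

variable {G : Type u} [Group G] [Finite G] {D : Set G} {m : ℕ} (L : SymLoc D m)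

/-- The point of a member not commuting with `d`. -/
noncomputable def SymLoc.pt (d x : G) : Fin m :=
  if h : ∃ k, ∀ e ∈ nb D d, Commute e x ↔ k ∉ L.p d e then h.choose else ⟨0, by have := L.big; omega⟩

/-- `x` and `y` are on the same side of `d`. -/
def SymLoc.Near (d x y : G) : Prop := y = x ∨ (L.pt d y ≠ L.pt d x ∧ ¬ Commute y x)

variable {d x y : G}

theorem SymLoc.pt_spec (hd : d ∈ D) (hx : x ∈ D) (hdx : ¬ Commute d x) {e : G} (he : e ∈ nb D d) :
    Commute e x ↔ L.pt d x ∉ L.p d e := by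
  rw [SymLoc.pt, dif_pos (L.exists_point hd hx hdx)]
  exact (L.exists_point hd hx hdx).choose_spec e he

theorem SymLoc.common_of_avoid (hd : d ∈ D) {T : Finset (Fin m)} (hT : T.card + 2 ≤ m) :
    ∃ a ∈ nb D d, ∀ y ∈ D, ¬ Commute d y → L.pt d y ∈ T → y ∈ nb D a := by
  obtain ⟨s, t, hst, hs, ht⟩ := exists_two_outside T (by rwa [Fintype.card_fin])
  obtain ⟨a, ha, hae⟩ := L.surj d hd {s, t} (card_pair hst)
  refine ⟨a, ha, fun y hy hdy hyT => ⟨hy, fun e => hdy (e ▸ ha.2.2), (L.pt_spec hd hy hdy ha).2 ?_⟩⟩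
  rw [hae]
  simp only [mem_insert, mem_singleton, not_or]
  exact ⟨fun e => hs (e ▸ hyT), fun e => ht (e ▸ hyT)⟩

theorem SymLoc.pt_not_mem (hd : d ∈ D) (hx : x ∈ D) (hdx : ¬ Commute d x) {a : G} (ha : a ∈ nb D d)
    (hxa : x ∈ nb D a) : L.pt d x ∉ L.p d a := (L.pt_spec hd hx hdx ha).1 hxa.2.2

theorem SymLoc.corner_eq (hd : d ∈ D) (hx : x ∈ D) (hdx : ¬ Commute d x) (hy : y ∈ D) (hdy : ¬ Commute d y)
    {a : G} (ha : a ∈ nb D d) (hxa : x ∈ nb D a) (hya : y ∈ nb D a) {P R P' R' : Fin m} (hP : P ∈ L.p a d)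
    (hR : R ∉ L.p a d) (hx' : L.p a x = {P, R}) (hP' : P' ∈ L.p a d) (hR' : R' ∉ L.p a d)
    (hy' : L.p a y = {P', R'}) : R = R' ↔ L.pt d x = L.pt d y := by
  have hm := L.big
  have hnb : ∀ e ∈ nb D d, Disjoint (L.p d e) (L.p d a) → e ∈ nb D a := by
    intro e he h
    have hne : e ≠ a := fun h' => by
      rw [h', disjoint_self_iff_empty] at h
      have := L.card d hd a ha
      rw [h, card_empty] at this
      omega
    exact ⟨he.1, hne, ((L.comm d hd e he a ha hne).2 h).symm⟩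
  constructor
  · rintro rfl
    refine L.pt_eq hd (T := L.p d a) (by rw [L.card d hd a ha]; omega) (L.pt_not_mem hd hx hdx ha hxa)
      fun e he hT hk => ?_
    by_contra h
    have h1 := (L.commute_corner hd hdy ha hya hP' hy' he (hnb e he hT)).1 ((L.pt_spec hd hy hdy he).2 h)
    exact (L.pt_spec hd hx hdx he).1 ((L.commute_corner hd hdx ha hxa hP hx' he (hnb e he hT)).2 h1) hk
  · intro hk
    by_contra hne
    obtain ⟨t, s, -, ht, -⟩ := exists_two_outside (insert R' (insert R (L.p a d))) (by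
      rw [Fintype.card_fin]
      have h1 := card_insert_le R' (insert R (L.p a d))
      have h2 := card_insert_le R (L.p a d)
      rw [L.card a ha.1 d (nb_flip hd ha)] at h2
      omega)
    rw [mem_insert, mem_insert, not_or, not_or] at ht
    obtain ⟨e, he, hea, hes⟩ := L.exists_of_pair hd ha (Ne.symm ht.2.1) hR ht.2.2
    have h1 : ¬ Commute e x := fun h => (L.commute_corner hd hdx ha hxa hP hx' he hea).1 h (by
      rw [hes]; exact mem_insert_self R _)
    have h2 : Commute e y := (L.commute_corner hd hdy ha hya hP' hy' he hea).2 (by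
      rw [hes]; simp only [mem_insert, mem_singleton, not_or]; exact ⟨Ne.symm hne, Ne.symm ht.1⟩)
    exact h1 ((L.pt_spec hd hx hdx he).2 (hk ▸ (L.pt_spec hd hy hdy he).1 h2))

theorem pair_meet {P R P' R' : Fin m} {Dp : Finset (Fin m)} (hP : P ∈ Dp) (hR : R ∉ Dp) (hP' : P' ∈ Dp)
    (hR' : R' ∉ Dp) :
    (Disjoint ({P, R} : Finset (Fin m)) {P', R'} ↔ P ≠ P' ∧ R ≠ R') ∧
      (({P, R} : Finset (Fin m)) = {P', R'} ↔ P = P' ∧ R = R') := by
  constructor
  · simp only [disjoint_insert_left, disjoint_singleton_left, mem_insert, mem_singleton, not_or]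
    exact ⟨fun h => ⟨h.1.1, h.2.2⟩, fun h => ⟨⟨h.1, fun e => hR' (e ▸ hP)⟩, fun e => hR (e ▸ hP'), h.2⟩⟩
  · refine ⟨fun h => ?_, fun h => by rw [h.1, h.2]⟩
    have h1 : P ∈ ({P', R'} : Finset (Fin m)) := h ▸ mem_insert_self P _
    have h2 : R ∈ ({P', R'} : Finset (Fin m)) := h ▸ mem_insert_of_mem (mem_singleton_self R)
    simp only [mem_insert, mem_singleton] at h1 h2
    exact ⟨h1.resolve_right fun e => hR' (e ▸ hP), h2.resolve_left fun e => hR (e ▸ hP')⟩

/-- In the coordinates at a common neighbour, nearness is having the same end in the pair of `d`. -/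
theorem SymLoc.near_iff (hd : d ∈ D) (hx : x ∈ D) (hdx : ¬ Commute d x) (hy : y ∈ D) (hdy : ¬ Commute d y)
    {a : G} (ha : a ∈ nb D d) (hxa : x ∈ nb D a) (hya : y ∈ nb D a) {P R P' R' : Fin m} (hP : P ∈ L.p a d)
    (hR : R ∉ L.p a d) (hx' : L.p a x = {P, R}) (hP' : P' ∈ L.p a d) (hR' : R' ∉ L.p a d)
    (hy' : L.p a y = {P', R'}) : L.Near d x y ↔ P' = P := by
  have hc := L.corner_eq hd hx hdx hy hdy ha hxa hya hP hR hx' hP' hR' hy'
  obtain ⟨hdis, heq⟩ := pair_meet hP' hR' hP hR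
  constructor
  · rintro (rfl | ⟨h1, h2⟩)
    · exact (heq.1 (hy'.symm.trans hx')).1
    · by_contra h
      refine h2 ((L.comm a ha.1 y hya x hxa fun e => h1 (by rw [e])).2 ?_)
      rw [hy', hx']
      exact hdis.2 ⟨h, fun e => h1 (hc.1 e.symm).symm⟩
  · intro hPP
    by_cases hk : L.pt d y = L.pt d x
    · exact Or.inl (L.inj a ha.1 hya hxa (by rw [hy', hx']; exact heq.2 ⟨hPP, (hc.2 hk.symm).symm⟩))
    · refine Or.inr ⟨hk, fun h => ?_⟩
      have := (L.comm a ha.1 y hya x hxa fun e => hk (by rw [e])).1 h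
      rw [hy', hx'] at this
      exact (hdis.1 this).1 hPP

theorem SymLoc.mem_pair {a : G} (hd : d ∈ D) (ha : a ∈ nb D d) {P P' P'' : Fin m} (h : P ∈ L.p a d)
    (h' : P' ∈ L.p a d) (h'' : P'' ∈ L.p a d) : (P' = P ↔ P'' = P) ↔ P'' = P' := by
  obtain ⟨s, t, hst, he⟩ := card_eq_two.1 (L.card a ha.1 d (nb_flip hd ha))
  rw [he] at h h' h''
  simp only [mem_insert, mem_singleton] at h h' h''
  rcases h with rfl | rfl <;> rcases h' with rfl | rfl <;> rcases h'' with rfl | rfl <;>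
    simp [hst, Ne.symm hst]

theorem SymLoc.near_trans (hd : d ∈ D) (hx : x ∈ D) (hdx : ¬ Commute d x) (hy : y ∈ D) (hdy : ¬ Commute d y)
    {z : G} (hz : z ∈ D) (hdz : ¬ Commute d z) : (L.Near d x y ↔ L.Near d x z) ↔ L.Near d y z := by
  obtain ⟨a, ha, hall⟩ := L.common_of_avoid hd (T := {L.pt d x, L.pt d y, L.pt d z}) (by
    have h1 := card_insert_le (L.pt d x) {L.pt d y, L.pt d z}
    have h2 := card_insert_le (L.pt d y) {L.pt d z}
    rw [card_singleton] at h2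
    have := L.big; omega)
  have hxa := hall x hx hdx (by simp)
  have hya := hall y hy hdy (by simp)
  have hza := hall z hz hdz (by simp)
  obtain ⟨P, R, hP, hR, hx'⟩ := L.corner hd hdx ha hxa
  obtain ⟨P', R', hP', hR', hy'⟩ := L.corner hd hdy ha hya
  obtain ⟨P'', R'', hP'', hR'', hz'⟩ := L.corner hd hdz ha hza
  rw [L.near_iff hd hx hdx hy hdy ha hxa hya hP hR hx' hP' hR' hy',
    L.near_iff hd hx hdx hz hdz ha hxa hza hP hR hx' hP'' hR'' hz',
    L.near_iff hd hy hdy hz hdz ha hya hza hP' hR' hy' hP'' hR'' hz']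
  exact L.mem_pair hd ha hP hP' hP''

/-- Members with the same point that differ do not commute. -/
theorem SymLoc.commute_far (hd : d ∈ D) (hx : x ∈ D) (hdx : ¬ Commute d x) (hy : y ∈ D) (hdy : ¬ Commute d y) :
    Commute y x ↔ y = x ∨ (L.pt d y ≠ L.pt d x ∧ ¬ L.Near d x y) := by
  by_cases hyx : y = x
  · simp [hyx]
  by_cases hk : L.pt d y = L.pt d x
  · refine iff_of_false (fun hc => ?_) (by simp [hyx, hk])
    obtain ⟨a, ha, hall⟩ := L.common_of_avoid hd (T := {L.pt d x}) (by rw [card_singleton]; have := L.big; omega)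
    have hxa := hall x hx hdx (by simp)
    have hya := hall y hy hdy (by simp [hk])
    obtain ⟨P, R, hP, hR, hx'⟩ := L.corner hd hdx ha hxa
    obtain ⟨P', R', hP', hR', hy'⟩ := L.corner hd hdy ha hya
    have := (L.comm a ha.1 y hya x hxa hyx).1 hc
    rw [hy', hx'] at this
    exact ((pair_meet hP' hR' hP hR).1.1 this).2
      ((L.corner_eq hd hx hdx hy hdy ha hxa hya hP hR hx' hP' hR' hy').2 hk.symm).symm
  · refine ⟨fun h => Or.inr ⟨hk, ?_⟩, ?_⟩
    · rintro (h' | ⟨-, h'⟩)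
      exacts [hyx h', h' h]
    · rintro (h | ⟨-, h⟩)
      · exact absurd h hyx
      · by_contra hn
        exact h (Or.inr ⟨hk, hn⟩)

/-- Every point and side occurs. -/
theorem SymLoc.exists_far (hd : d ∈ D) (hx : x ∈ D) (hdx : ¬ Commute d x) (k : Fin m) (b : Prop) :
    ∃ y, y ∈ D ∧ ¬ Commute d y ∧ L.pt d y = k ∧ (L.Near d x y ↔ b) := by
  have hm := L.big
  obtain ⟨s, t, hst, hs, ht⟩ := exists_two_outside ({L.pt d x, k} : Finset (Fin m)) (by
    rw [Fintype.card_fin]; have := card_insert_le (L.pt d x) {k}; rw [card_singleton] at this; omega)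
  obtain ⟨a, ha, hae⟩ := L.surj d hd {s, t} (card_pair hst)
  have hxa : x ∈ nb D a := ⟨hx, fun e => hdx (e ▸ ha.2.2), (L.pt_spec hd hx hdx ha).2 (by
    rw [hae]; simp only [mem_insert, mem_singleton, not_or] at hs ht ⊢
    exact ⟨fun e => hs.1 e.symm, fun e => ht.1 e.symm⟩)⟩
  obtain ⟨P, R, hP, hR, hx'⟩ := L.corner hd hdx ha hxa
  obtain ⟨Q, hQ, hb⟩ : ∃ Q ∈ L.p a d, (Q = P ↔ b) := by
    by_cases hb : b
    · exact ⟨P, hP, iff_of_true rfl hb⟩
    · obtain ⟨Q, hQ, hQP⟩ := exists_mem_ne (show 1 < (L.p a d).card by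
        rw [L.card a ha.1 d (nb_flip hd ha)]; omega) P
      exact ⟨Q, hQ, iff_of_false hQP hb⟩
  have hex : ∀ T ∈ (L.p a d)ᶜ, ∃ y, y ∈ D ∧ ¬ Commute d y ∧ y ∈ nb D a ∧ L.p a y = {Q, T} := by
    intro T hT
    rw [mem_compl] at hT
    obtain ⟨y, hy, hye⟩ := L.surj a ha.1 {Q, T} (card_pair fun e => hT (e ▸ hQ))
    have hne : d ≠ y := fun e => hT (by rw [e, hye]; exact mem_insert_of_mem (mem_singleton_self T))
    refine ⟨y, hy.1, fun h => ?_, hy, hye⟩
    have := (L.comm a ha.1 d (nb_flip hd ha) y hy hne).1 h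
    rw [hye] at this
    exact disjoint_left.1 this hQ (mem_insert_self Q _)
  choose Y hYD hdY hYa hYe using hex
  have hmaps : ∀ T (hT : T ∈ (L.p a d)ᶜ), L.pt d (Y T hT) ∈ (L.p d a)ᶜ := fun T hT =>
    mem_compl.2 (L.pt_not_mem hd (hYD T hT) (hdY T hT) ha (hYa T hT))
  have hinj : ∀ T₁ (h₁ : T₁ ∈ (L.p a d)ᶜ) T₂ (h₂ : T₂ ∈ (L.p a d)ᶜ),
      L.pt d (Y T₁ h₁) = L.pt d (Y T₂ h₂) → T₁ = T₂ := fun T₁ h₁ T₂ h₂ e =>
    (L.corner_eq hd (hYD T₁ h₁) (hdY T₁ h₁) (hYD T₂ h₂) (hdY T₂ h₂) ha (hYa T₁ h₁) (hYa T₂ h₂) hQ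
      (mem_compl.1 h₁) (hYe T₁ h₁) hQ (mem_compl.1 h₂) (hYe T₂ h₂)).2 e
  obtain ⟨T, hT, hTk⟩ := surj_on_of_inj_on_of_card_le (fun T hT => L.pt d (Y T hT)) hmaps
    (fun _ _ h₁ h₂ e => hinj _ h₁ _ h₂ e)
    (by rw [card_compl, card_compl, L.card d hd a ha, L.card a ha.1 d (nb_flip hd ha)]) k
    (mem_compl.2 (by rw [hae]; simp only [mem_insert, mem_singleton, not_or] at hs ht ⊢
                     exact ⟨fun e => hs.2 e.symm, fun e => ht.2 e.symm⟩))
  refine ⟨Y T hT, hYD T hT, hdY T hT, hTk.symm, ?_⟩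
  rw [L.near_iff hd hx hdx (hYD T hT) (hdY T hT) ha hxa (hYa T hT) hP hR hx' hQ (mem_compl.1 hT) (hYe T hT), hb]

end CfsgLib.ThreeTrans.SymSection
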